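import Cfsg.Agent.H150.SpExist
import Cfsg.Agent.S0245
import Cfsg.Agent.H94.Sp.Base_m3
import Cfsg.Agent.Prune
set_option linter.all false

section
prune_inst 0x7f00000000000000000000000000000000000000000000000000000000000000000000000000000000000000000000000000000000000000000000000000000000000000000000000000000000000000003fffffffffffffffffffffffffffbeffbdfffffffd

-- part: H377/SpElt
section
prune_inst 0x2
set_option linter.all false
open scoped Cfsg.Agent.FastGrp

/-!
# Element orders of `PSp_{2m}(q)` and the primes not adjacent to 2 (helper377)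

* `exists_psp_tor` : for `N` with `2 N ∣ q ^ m ± 1`, or `N` odd, `N ∣ q ^ m ± 1`, there is an element of order `N`;
* `exists_psp_two_mul` : an element of order `2 u`, `u` odd prime dividing `q ^ (2 i) - 1`, `1 ≤ i < m`;
* `exists_psp_char` : an element of order `2 p` (`q` odd);
* `psp_info`, `psp_adj`, `psp_three` : the three-component theorem for `PSp`.
-/

set_option autoImplicit false
set_option linter.unusedSectionVars false
set_option linter.style.haveILetI false

namespace Cfsg.Agent.H377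

open Module Cfsg
open Cfsg.Agent.H150

section

variable {F : Type*} [Field F] [Finite F]

/-- `IsPow ζ N` : `ζ ^ j = ± 1` iff `N ∣ j` -/
theorem pow_pm_iff {L : Type*} [Field L] {ζ : L} {N : ℕ} (h : (Odd N ∧ orderOf ζ = N) ∨ orderOf ζ = 2 * N) (j : ℕ) :
    (ζ ^ j = 1 ∨ ζ ^ j = -1) ↔ N ∣ j := by
  rcases h with ⟨hN, ho⟩ | ho
  · constructor
    · rintro (h | h)
      · rw [← ho]; exact orderOf_dvd_of_pow_eq_one h
      · have h2 : ζ ^ (2 * j) = 1 := by rw [mul_comm, pow_mul, h]; norm_num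
        have h3 := orderOf_dvd_of_pow_eq_one h2
        rw [ho] at h3
        exact (Nat.Coprime.dvd_mul_left (Nat.coprime_two_left.2 hN).symm).1 h3
    · intro h
      left
      rw [← orderOf_dvd_iff_pow_eq_one, ho]
      exact h
  · constructor
    · intro h
      have h2 : ζ ^ (2 * j) = 1 := by
        rw [mul_comm, pow_mul]
        rcases h with h | h <;> rw [h] <;> norm_num
      have h3 := orderOf_dvd_of_pow_eq_one h2
      rw [ho] at h3
      exact Nat.dvd_of_mul_dvd_mul_left (by norm_num) h3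
    · rintro ⟨k, rfl⟩
      have h1 : (ζ ^ (N * k)) * (ζ ^ (N * k)) = 1 := by
        rw [← pow_add, ← two_mul, ← mul_assoc, pow_mul, ← ho, pow_orderOf_eq_one, one_pow]
      exact mul_self_eq_one_iff.1 h1

/-- split tori -/
theorem exists_psp_tor_plus {m : ℕ} (hm : 1 ≤ m) {N : ℕ} (hN0 : 0 < N)
    (hN : (Odd N ∧ N ∣ Nat.card F ^ m - 1) ∨ 2 * N ∣ Nat.card F ^ m - 1) :
    ∃ g : PSp m F, orderOf g = N := by
  obtain ⟨p, _⟩ := CharP.exists F
  haveI : Fact p.Prime := ⟨CharP.char_is_prime F p⟩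
  haveI : NeZero m := ⟨by omega⟩
  let K := FiniteField.Extension F p m
  have hK : Nat.card K = Nat.card F ^ m := FiniteField.natCard_extension F p m
  have hfr : finrank F K = m := FiniteField.finrank_extension F p m
  haveI : FiniteDimensional F K := Module.Finite.of_finite
  obtain ⟨M, hM0, hMN, hMd⟩ : ∃ M : ℕ, 0 < M ∧ ((Odd N ∧ M = N) ∨ M = 2 * N) ∧ M ∣ Nat.card Kˣ := by
    rw [Nat.card_units, hK]
    rcases hN with ⟨h1, h2⟩ | h
    · exact ⟨N, hN0, Or.inl ⟨h1, rfl⟩, h2⟩
    · exact ⟨2 * N, by omega, Or.inr rfl, h⟩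
  obtain ⟨ζ, hζ⟩ : ∃ ζ : Kˣ, orderOf ζ = M := by
    obtain ⟨l, hl⟩ := IsCyclic.exists_ofOrder_eq_natCard (α := Kˣ)
    exact ⟨l ^ (orderOf l / M), orderOf_pow_orderOf_div (by rw [hl]; exact Nat.card_pos.ne') (by rw [hl]; exact hMd)⟩
  have hζ' : orderOf (ζ : K) = M := by rw [orderOf_units, hζ]
  have hpm := pow_pm_iff (ζ := (ζ : K)) (N := N) (by
    rcases hMN with ⟨h1, h2⟩ | h
    · exact Or.inl ⟨h1, by rw [hζ', h2]⟩
    · exact Or.inr (by rw [hζ', h]))
  -- the form
  let B : LinearMap.BilinForm F (K × K) :=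
    LinearMap.mk₂ F (fun u v : K × K => Algebra.trace F K (u.1 * v.2 - v.1 * u.2))
      (fun u u' v => by rw [← map_add]; congr 1; simp only [Prod.fst_add, Prod.snd_add]; ring)
      (fun c u v => by
        rw [← map_smul]; congr 1; simp only [Prod.smul_fst, Prod.smul_snd]; simp only [Algebra.smul_def]; ring)
      (fun u v v' => by rw [← map_add]; congr 1; simp only [Prod.fst_add, Prod.snd_add]; ring)
      (fun c u v => by
        rw [← map_smul]; congr 1; simp only [Prod.smul_fst, Prod.smul_snd]; simp only [Algebra.smul_def]; ring)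
  have hB : ∀ u v : K × K, B u v = Algebra.trace F K (u.1 * v.2 - v.1 * u.2) := fun u v => rfl
  have hnd : ∀ x : K, (∀ y : K, Algebra.trace F K (x * y) = 0) → x = 0 := by
    intro x hx
    by_contra hne
    obtain ⟨t, ht⟩ := Algebra.trace_surjective F K 1
    have h1 := hx (x⁻¹ * t)
    rw [← mul_assoc, mul_inv_cancel₀ hne, one_mul, ht] at h1
    exact one_ne_zero h1
  let T : (K × K) →ₗ[F] (K × K) :=
    (((LinearMap.mulLeft F (ζ : K))).prodMap (LinearMap.mulLeft F (((ζ⁻¹ : Kˣ) : K))))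
  have hT : ∀ (k : ℕ) (v : K × K), (T ^ k) v = (((ζ ^ k : Kˣ) : K) * v.1, (((ζ ^ k)⁻¹ : Kˣ) : K) * v.2) := by
    intro k
    induction k with
    | zero => intro v; simp
    | succ k ih =>
      intro v
      rw [pow_succ, Module.End.mul_apply, ih]
      change (((ζ ^ k : Kˣ) : K) * ((ζ : K) * v.1), (((ζ ^ k)⁻¹ : Kˣ) : K) * (((ζ⁻¹ : Kˣ) : K) * v.2)) = _
      rw [pow_succ, mul_inv_rev, Units.val_mul, Units.val_mul, mul_assoc]
      congr 1
      rw [mul_comm ((ζ⁻¹ : Kˣ) : K) (((ζ ^ k)⁻¹ : Kˣ) : K), mul_assoc]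
  refine exists_psp hm B ?_ ?_ ?_ T ?_ N ?_
  · intro x
    rw [hB, sub_self, map_zero]
  · intro u hu
    refine Prod.ext (hnd _ fun y => ?_) (hnd _ fun y => ?_)
    · have := hu (0, y)
      rw [hB] at this
      simpa using this
    · have := hu (-y, 0)
      rw [hB] at this
      rw [← this]
      congr 1
      change u.2 * y = u.1 * 0 - (-y) * u.2
      ring
  · rw [Module.finrank_prod, hfr]
    ring
  · intro x y
    have h := hT 1
    rw [pow_one] at h
    rw [h, h, hB, hB, pow_one]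
    congr 1
    have h1 : (ζ : K) * ((ζ⁻¹ : Kˣ) : K) = 1 := Units.mul_inv ζ
    change (ζ : K) * x.1 * (((ζ⁻¹ : Kˣ) : K) * y.2) - (ζ : K) * y.1 * (((ζ⁻¹ : Kˣ) : K) * x.2) = _
    linear_combination (x.1 * y.2 - y.1 * x.2) * h1
  · intro j
    rw [← hpm j]
    have hval : ((ζ ^ j : Kˣ) : K) = (ζ : K) ^ j := Units.val_pow_eq_pow_val ζ j
    constructor
    · rintro (h | h)
      · left
        have h1 := hT j (1, 0)
        rw [h, hval] at h1
        have h2 := congrArg Prod.fst h1
        simp only [mul_one] at h2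
        exact h2.symm
      · right
        have h1 := hT j (1, 0)
        rw [h, hval] at h1
        have h2 := congrArg Prod.fst h1
        simp only [mul_one] at h2
        exact h2.symm
    · rintro (h | h)
      · left
        have h0 : ζ ^ j = 1 := Units.ext (by rw [hval, h]; rfl)
        refine LinearMap.ext fun v => ?_
        rw [hT, h0]
        simp
      · right
        have h0 : ζ ^ j = -1 := Units.ext (by rw [hval, h]; rfl)
        refine LinearMap.ext fun v => ?_
        rw [hT, h0]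
        refine Prod.ext ?_ ?_
        · simp
        · simp

/-- nonsplit tori -/
theorem exists_psp_tor_minus {m : ℕ} (hm : 1 ≤ m) {N : ℕ} (hN0 : 0 < N)
    (hN : (Odd N ∧ N ∣ Nat.card F ^ m + 1) ∨ 2 * N ∣ Nat.card F ^ m + 1) :
    ∃ g : PSp m F, orderOf g = N := by
  classical
  obtain ⟨p, _⟩ := CharP.exists F
  haveI : Fact p.Prime := ⟨CharP.char_is_prime F p⟩
  haveI : NeZero (2 * m) := ⟨by omega⟩
  let L := FiniteField.Extension F p (2 * m)
  have hL : Nat.card L = Nat.card F ^ (2 * m) := FiniteField.natCard_extension F p (2 * m)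
  have hfr : finrank F L = 2 * m := FiniteField.finrank_extension F p (2 * m)
  haveI : FiniteDimensional F L := Module.Finite.of_finite
  letI : Fintype F := Fintype.ofFinite F
  letI : Fintype L := Fintype.ofFinite L
  haveI : CharP L p := charP_of_injective_algebraMap (algebraMap F L).injective p
  obtain ⟨a, -, ha⟩ := FiniteField.card F p
  set Q : ℕ := Nat.card F ^ m with hQ
  have hQp : Q = p ^ ((a : ℕ) * m) := by rw [hQ, Nat.card_eq_fintype_card, ha, ← pow_mul]
  have hadd : ∀ x y : L, (x + y) ^ Q = x ^ Q + y ^ Q := by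
    intro x y
    rw [hQp]
    exact add_pow_char_pow x y p ((a : ℕ) * m)
  have hQQ : ∀ x : L, (x ^ Q) ^ Q = x := by
    intro x
    rw [← pow_mul, hQ, ← pow_add, ← two_mul, ← hL, Nat.card_eq_fintype_card]
    exact FiniteField.pow_card x
  have hF : ∀ c : F, (algebraMap F L c) ^ Q = algebraMap F L c := by
    intro c
    rw [← map_pow]
    congr 1
    rw [hQ, Nat.card_eq_fintype_card]
    exact FiniteField.pow_card_pow m c
  -- the trace vanishes on antisymmetric elements
  have htr : ∀ z : L, z ^ Q = -z → Algebra.trace F L z = 0 := by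
    intro z hz
    apply (algebraMap F L).injective
    have hsum : Finset.range (finrank F L) = Finset.range (m + m) := by rw [hfr, two_mul]
    rw [FiniteField.algebraMap_trace_eq_sum_pow, hsum, Finset.sum_range_add, map_zero, ← Finset.sum_add_distrib]
    apply Finset.sum_eq_zero
    intro i _
    have h1 : z ^ Nat.card F ^ (m + i) = (z ^ Q) ^ (Nat.card F ^ i) := by
      rw [← pow_mul, hQ, ← pow_add]
    rw [h1, hz]
    rcases Nat.even_or_odd (Nat.card F ^ i) with he | ho
    · -- even: characteristic two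
      have hp2 : p = 2 := by
        rw [Nat.card_eq_fintype_card, ha, ← pow_mul] at he
        exact ((Nat.prime_dvd_prime_iff_eq Nat.prime_two (Fact.out : p.Prime)).1
          (Nat.prime_two.dvd_of_dvd_pow he.two_dvd)).symm
      subst hp2
      rw [he.neg_pow]
      exact CharTwo.add_self_eq_zero _
    · rw [ho.neg_pow, add_neg_cancel]
  -- an antisymmetric element
  obtain ⟨l, hl0, hl⟩ : ∃ l : L, l ≠ 0 ∧ l ^ Q = -l := by
    obtain ⟨y, hy⟩ : ∃ y : L, y ^ Q ≠ y := by
      by_contra hcon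
      push Not at hcon
      have h1 : Nat.card L ≤ Q := by
        have hQ1 : 1 < Q := by
          rw [hQ]
          exact Nat.one_lt_pow (by omega) Finite.one_lt_card
        have h2 : (Polynomial.X ^ Q - Polynomial.X : Polynomial L) ≠ 0 := FiniteField.X_pow_card_sub_X_ne_zero L hQ1
        have h3 : (Finset.univ : Finset L) ⊆ (Polynomial.X ^ Q - Polynomial.X : Polynomial L).roots.toFinset := by
          intro x _
          rw [Multiset.mem_toFinset, Polynomial.mem_roots h2]
          simp [Polynomial.IsRoot, hcon x]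
        have h4 := Finset.card_le_card h3
        rw [Finset.card_univ] at h4
        have h5 := Multiset.toFinset_card_le (Polynomial.X ^ Q - Polynomial.X : Polynomial L).roots
        have h6 := Polynomial.card_roots' (Polynomial.X ^ Q - Polynomial.X : Polynomial L)
        rw [FiniteField.X_pow_card_sub_X_natDegree_eq L hQ1] at h6
        rw [Nat.card_eq_fintype_card]
        omega
      rw [hL, two_mul, pow_add, ← hQ] at h1
      have hQ1 : 1 < Q := by
        rw [hQ]
        exact Nat.one_lt_pow (by omega) Finite.one_lt_card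
      nlinarith
    refine ⟨y - y ^ Q, sub_ne_zero.2 (Ne.symm hy), ?_⟩
    have h1 : (y - y ^ Q) ^ Q + (y ^ Q) ^ Q = y ^ Q := by
      rw [← hadd, sub_add_cancel]
    rw [hQQ] at h1
    linear_combination h1
  obtain ⟨M, hM0, hMN, hMd⟩ : ∃ M : ℕ, 0 < M ∧ ((Odd N ∧ M = N) ∨ M = 2 * N) ∧ M ∣ Q + 1 := by
    rcases hN with ⟨h1, h2⟩ | h
    · exact ⟨N, hN0, Or.inl ⟨h1, rfl⟩, h2⟩
    · exact ⟨2 * N, by omega, Or.inr rfl, h⟩
  have hcardL : Nat.card Lˣ = (Q + 1) * (Q - 1) := by
    rw [Nat.card_units, hL, two_mul, pow_add, ← hQ, ← Nat.sq_sub_sq, one_pow, pow_two]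
  obtain ⟨ζ, hζ⟩ : ∃ ζ : Lˣ, orderOf ζ = M := by
    obtain ⟨g, hg⟩ := IsCyclic.exists_ofOrder_eq_natCard (α := Lˣ)
    exact ⟨g ^ (orderOf g / M), orderOf_pow_orderOf_div (by rw [hg]; exact Nat.card_pos.ne')
      (by rw [hg, hcardL]; exact Dvd.dvd.mul_right hMd _)⟩
  have hζ' : orderOf (ζ : L) = M := by rw [orderOf_units, hζ]
  have hζQ : (ζ : L) * (ζ : L) ^ Q = 1 := by
    rw [← pow_succ', ← orderOf_dvd_iff_pow_eq_one, hζ']
    exact hMd
  have hpm := pow_pm_iff (ζ := (ζ : L)) (N := N) (by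
    rcases hMN with ⟨h1, h2⟩ | h
    · exact Or.inl ⟨h1, by rw [hζ', h2]⟩
    · exact Or.inr (by rw [hζ', h]))
  let B : LinearMap.BilinForm F L :=
    LinearMap.mk₂ F (fun u v : L => Algebra.trace F L (l * u * v ^ Q))
      (fun u u' v => by rw [← map_add]; congr 1; ring)
      (fun c u v => by rw [← map_smul]; congr 1; simp only [Algebra.smul_def]; ring)
      (fun u v v' => by rw [← map_add]; congr 1; rw [hadd]; ring)
      (fun c u v => by
        rw [← map_smul]; congr 1; simp only [Algebra.smul_def]; rw [mul_pow, hF]; ring)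
  have hB : ∀ u v : L, B u v = Algebra.trace F L (l * u * v ^ Q) := fun u v => rfl
  have hnd : ∀ x : L, (∀ y : L, Algebra.trace F L (x * y) = 0) → x = 0 := by
    intro x hx
    by_contra hne
    obtain ⟨t, ht⟩ := Algebra.trace_surjective F L 1
    have h1 := hx (x⁻¹ * t)
    rw [← mul_assoc, mul_inv_cancel₀ hne, one_mul, ht] at h1
    exact one_ne_zero h1
  let T : L →ₗ[F] L := LinearMap.mulLeft F (ζ : L)
  have hT : ∀ (k : ℕ) (v : L), (T ^ k) v = (ζ : L) ^ k * v := by
    intro k
    induction k with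
    | zero => intro v; simp
    | succ k ih =>
      intro v
      rw [pow_succ, Module.End.mul_apply, ih]
      change (ζ : L) ^ k * ((ζ : L) * v) = _
      rw [pow_succ, mul_assoc]
  refine exists_psp hm B ?_ ?_ hfr T ?_ N ?_
  · intro x
    rw [hB]
    apply htr
    rw [mul_pow, mul_pow, hQQ, hl]
    ring
  · intro u hu
    have h1 : l * u = 0 := hnd _ fun y => by
      have := hu (y ^ Q)
      rw [hB, hQQ] at this
      exact this
    exact (mul_eq_zero.1 h1).resolve_left hl0
  · intro x y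
    have h := hT 1
    simp only [pow_one] at h
    rw [h, h, hB, hB]
    congr 1
    rw [mul_pow]
    linear_combination (l * x * y ^ Q) * hζQ
  · intro j
    rw [← hpm j]
    constructor
    · rintro (h | h)
      · left
        have h1 := hT j 1
        rw [h, mul_one] at h1
        exact h1.symm
      · right
        have h1 := hT j 1
        rw [h, mul_one] at h1
        exact h1.symm
    · rintro (h | h)
      · left
        refine LinearMap.ext fun v => ?_
        rw [hT, h, one_mul]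
        rfl
      · right
        refine LinearMap.ext fun v => ?_
        rw [hT, h, neg_one_mul]
        rfl

open Cfsg.Agent.H94.PG Cfsg.Agent.H564.NearTwo

theorem adj_of_orderOf {G : Type*} [Group G] {a b : ℕ} (ha : a.Prime) (hb : b.Prime) (hab : a ≠ b) {g : G}
    (hg : orderOf g = a * b) : Adj G a b := by
  have h0 : orderOf g ≠ 0 := by
    rw [hg]
    exact mul_ne_zero ha.ne_zero hb.ne_zero
  exact adj_of_dvd ha hb hab (Commute.refl g) (by rw [hg]; exact dvd_mul_right _ _)
    (by rw [hg]; exact dvd_mul_left _ _) h0 h0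

/-- elements of order `2 u` -/
theorem exists_psp_two_mul {a b : ℕ} (ha : 1 ≤ a) (hb : 1 ≤ b) {u : ℕ} (hu : Odd u)
    (S : Matrix.symplecticGroup (Fin a) F) (hS : orderOf S = u) : ∃ g : PSp (a + b) F, orderOf g = u * 2 := by
  haveI : Nonempty (Fin a ⊕ Fin a) := ⟨Sum.inl ⟨0, ha⟩⟩
  haveI : Nonempty (Fin b ⊕ Fin b) := ⟨Sum.inl ⟨0, hb⟩⟩
  have hSj : ∀ j : ℕ, (spLin S) ^ j = 1 ↔ u ∣ j := by
    intro j
    rw [spLin_pow_eq_one_iff, ← orderOf_dvd_iff_pow_eq_one, hS]
  by_cases h2 : (2 : F) = 0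
  · -- characteristic two
    haveI : CharP F 2 := by
      refine ⟨fun x => ?_⟩
      have := CharP.cast_eq_zero_iff F (ringChar F) x
      have h3 : ringChar F = 2 := by
        have h4 : ringChar F ∣ 2 := (ringChar.spec F 2).1 (by exact_mod_cast h2)
        have h5 : ringChar F ≠ 1 := CharP.ringChar_ne_one
        exact ((Nat.dvd_prime Nat.prime_two).1 h4).resolve_left h5
      rw [h3] at this
      exact this
    haveI : Fact (Nat.Prime 2) := ⟨Nat.prime_two⟩
    obtain ⟨t, ht, -⟩ := exists_transv (F := F) 2 hb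
    refine exists_psp_of_prod ha S t fun j => ?_
    have hneg : ∀ {V : Type _} [AddCommGroup V] [Module F V], (-1 : Module.End F V) = 1 := by
      intro V _ _
      refine LinearMap.ext fun v => ?_
      have h3 : (2 : F) • v = 0 := by rw [h2, zero_smul]
      rw [two_smul] at h3
      change -v = v
      exact neg_eq_of_add_eq_zero_left h3
    rw [hneg, hneg, or_self, hSj, ht]
    constructor
    · rintro ⟨h3, h4⟩
      exact (Nat.Coprime.mul_dvd_of_dvd_of_dvd (Nat.coprime_two_right.2 hu) h3 h4)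
    · intro h3
      exact ⟨dvd_trans (dvd_mul_right _ _) h3, dvd_trans (dvd_mul_left _ _) h3⟩
  · -- odd characteristic: `T = -1`
    let T : Matrix.symplecticGroup (Fin b) F := ⟨-1, SymplecticGroup.neg_mem (one_mem _)⟩
    have hT : spLin T = -1 := by
      refine LinearMap.ext fun v => ?_
      show ((-1 : Matrix (Fin b ⊕ Fin b) (Fin b ⊕ Fin b) F)).mulVec v = -v
      rw [Matrix.neg_mulVec, Matrix.one_mulVec]
    have hTe : ∀ {k j : ℕ}, Even j → ((-1 : (Fin k ⊕ Fin k → F) →ₗ[F] (Fin k ⊕ Fin k → F)) ^ j) = 1 := by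
      intro k j hj
      exact Even.neg_one_pow (α := Module.End F (Fin k ⊕ Fin k → F)) hj
    have hTo : ∀ {k j : ℕ}, Odd j → ((-1 : (Fin k ⊕ Fin k → F) →ₗ[F] (Fin k ⊕ Fin k → F)) ^ j) = -1 := by
      intro k j hj
      exact Odd.neg_one_pow (α := Module.End F (Fin k ⊕ Fin k → F)) hj
    have hne : ∀ {V : Type _} [AddCommGroup V] [Module F V] [Nontrivial V], (1 : Module.End F V) ≠ -1 := by
      intro V _ _ _ h
      obtain ⟨v, hv⟩ := exists_ne (0 : V)
      have h3 := LinearMap.congr_fun h v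
      change v = -v at h3
      have h4 : (2 : F) • v = 0 := by
        rw [two_smul]
        nth_rewrite 1 [h3]
        exact neg_add_cancel v
      rcases smul_eq_zero.1 h4 with h5 | h5
      · exact h2 h5
      · exact hv h5
    refine exists_psp_of_prod ha S T fun j => ?_
    rw [hT, hSj]
    constructor
    · rintro (⟨h3, h4⟩ | ⟨h3, h4⟩)
      · refine Nat.Coprime.mul_dvd_of_dvd_of_dvd (Nat.coprime_two_right.2 hu) h3 ?_
        rcases Nat.even_or_odd j with he | ho
        · exact he.two_dvd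
        · exfalso
          rw [hTo ho] at h4
          exact hne h4.symm
      · exfalso
        have h5 : ((spLin S) ^ j) ^ u = 1 := by
          rw [← pow_mul, hSj]
          exact dvd_mul_left _ _
        rw [h3, hTo hu] at h5
        exact hne h5.symm
    · intro h3
      left
      refine ⟨dvd_trans (dvd_mul_right _ _) h3, ?_⟩
      have he : Even j := (even_iff_two_dvd).2 (dvd_trans (dvd_mul_left _ _) h3)
      exact hTe he

/-- elements of order `2 p` -/
theorem exists_psp_char {p : ℕ} [Fact p.Prime] [CharP F p] (hp2 : p ≠ 2) {m : ℕ} (hm : 2 ≤ m) :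
    ∃ g : PSp m F, orderOf g = p * 2 := by
  obtain ⟨t, ht, -⟩ := exists_transv (F := F) p (m := 1) le_rfl
  have ho : orderOf t = p := H150.orderOf_eq_of_forall fun j => by rw [← spLin_pow_eq_one_iff, ht]
  have := exists_psp_two_mul (F := F) (a := 1) (b := m - 1) le_rfl (by omega)
    (((Fact.out : p.Prime).eq_two_or_odd').resolve_left hp2) t ho
  rwa [show 1 + (m - 1) = m by omega] at this

theorem psp_adj_two_of_dvd {m i : ℕ} (hi : 1 ≤ i) (him : i < m) {u : ℕ} (hu : u.Prime) (hu2 : u ≠ 2)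
    (hd : u ∣ Nat.card F ^ (2 * i) - 1) : Adj (PSp m F) u 2 := by
  classical
  letI := Fintype.ofFinite F
  haveI : Fact u.Prime := ⟨hu⟩
  have h1 : u ∣ Nat.card (Matrix.symplecticGroup (Fin i) F) := by
    rw [Cfsg.Agent.S0245.result (F := F) rfl i]
    refine dvd_mul_of_dvd_right (dvd_trans ?_ (Finset.dvd_prod_of_mem _
      (Finset.mem_range.2 (show i - 1 < i by omega)))) _
    rw [show i - 1 + 1 = i by omega, ← Nat.card_eq_fintype_card]
    exact hd
  haveI : Finite (Matrix.symplecticGroup (Fin i) F) :=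
    Finite.of_injective (fun A => (A : Matrix (Fin i ⊕ Fin i) (Fin i ⊕ Fin i) F)) Subtype.val_injective
  obtain ⟨S, hS⟩ := exists_prime_orderOf_dvd_card' u h1
  obtain ⟨b, rfl⟩ : ∃ b, m = i + b := ⟨m - i, by omega⟩
  obtain ⟨g, hg⟩ := exists_psp_two_mul (a := i) (b := b) hi (by omega) (hu.eq_two_or_odd'.resolve_left hu2) S hS
  exact adj_of_orderOf hu Nat.prime_two hu2 hg

theorem psp_adj_two_of_char {m : ℕ} (hm : 2 ≤ m) {u : ℕ} (hu : u.Prime) (hu2 : u ≠ 2) (hd : u ∣ Nat.card F) :
    Adj (PSp m F) u 2 := by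
  classical
  letI := Fintype.ofFinite F
  obtain ⟨p, _⟩ := CharP.exists F
  haveI : Fact p.Prime := ⟨CharP.char_is_prime F p⟩
  obtain ⟨a, -, ha⟩ := FiniteField.card F p
  rw [Nat.card_eq_fintype_card, ha] at hd
  have h1 : u = p := (Nat.prime_dvd_prime_iff_eq hu (Fact.out : p.Prime)).1 (hu.dvd_of_dvd_pow hd)
  subst h1
  obtain ⟨g, hg⟩ := exists_psp_char (F := F) (p := u) hu2 hm
  exact adj_of_orderOf hu Nat.prime_two hu2 hg

/-- **the odd primes not adjacent to 2** divide `q ^ m - 1` or `q ^ m + 1` and not `q ^ (2 i) - 1` for `i < m` -/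
theorem psp_info {m : ℕ} (hm : 2 ≤ m) {u : ℕ} (hu : u.Prime) (hu2 : u ≠ 2) (hd : u ∣ Nat.card (PSp m F))
    (hn : ¬ Adj (PSp m F) u 2) :
    (u ∣ Nat.card F ^ m - 1 ∨ u ∣ Nat.card F ^ m + 1) ∧ ∀ i, 1 ≤ i → i < m → ¬ u ∣ Nat.card F ^ (2 * i) - 1 := by
  classical
  letI := Fintype.ofFinite F
  have h0 : ∀ i, 1 ≤ i → i < m → ¬ u ∣ Nat.card F ^ (2 * i) - 1 := fun i hi him h =>
    hn (psp_adj_two_of_dvd hi him hu hu2 h)
  refine ⟨?_, h0⟩
  have h1 : u ∣ Nat.card (Matrix.symplecticGroup (Fin m) F) := hd.trans (Subgroup.card_quotient_dvd_card _)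
  rw [Cfsg.Agent.S0245.result (F := F) rfl m, ← Nat.card_eq_fintype_card] at h1
  rcases (Nat.Prime.dvd_mul hu).1 h1 with h2 | h2
  · exact absurd (psp_adj_two_of_char hm hu hu2 (hu.dvd_of_dvd_pow h2)) hn
  · obtain ⟨i, hi, hi2⟩ := (hu.prime.dvd_finsetProd_iff _).1 h2
    rw [Finset.mem_range] at hi
    rcases Nat.lt_or_ge (i + 1) m with h3 | h3
    · exact absurd hi2 (h0 (i + 1) (by omega) h3)
    · rw [show i + 1 = m by omega, mul_comm, pow_mul] at hi2
      have h4 : (Nat.card F ^ m) ^ 2 - 1 = (Nat.card F ^ m + 1) * (Nat.card F ^ m - 1) := by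
        rw [← Nat.sq_sub_sq, one_pow]
      rw [h4] at hi2
      exact ((Nat.Prime.dvd_mul hu).1 hi2).symm

theorem psp_adj_minus {m : ℕ} (hm : 1 ≤ m) {a b : ℕ} (ha : a.Prime) (hb : b.Prime) (ha2 : a ≠ 2) (hb2 : b ≠ 2)
    (hab : a ≠ b) (h1 : a ∣ Nat.card F ^ m - 1) (h2 : b ∣ Nat.card F ^ m - 1) : Adj (PSp m F) a b := by
  obtain ⟨g, hg⟩ := exists_psp_tor_plus (F := F) hm (N := a * b) (Nat.mul_pos ha.pos hb.pos) (Or.inl
    ⟨(ha.eq_two_or_odd'.resolve_left ha2).mul (hb.eq_two_or_odd'.resolve_left hb2),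
      ((Nat.coprime_primes ha hb).2 hab).mul_dvd_of_dvd_of_dvd h1 h2⟩)
  exact adj_of_orderOf ha hb hab hg

theorem psp_adj_plus {m : ℕ} (hm : 1 ≤ m) {a b : ℕ} (ha : a.Prime) (hb : b.Prime) (ha2 : a ≠ 2) (hb2 : b ≠ 2)
    (hab : a ≠ b) (h1 : a ∣ Nat.card F ^ m + 1) (h2 : b ∣ Nat.card F ^ m + 1) : Adj (PSp m F) a b := by
  obtain ⟨g, hg⟩ := exists_psp_tor_minus (F := F) hm (N := a * b) (Nat.mul_pos ha.pos hb.pos) (Or.inl
    ⟨(ha.eq_two_or_odd'.resolve_left ha2).mul (hb.eq_two_or_odd'.resolve_left hb2),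
      ((Nat.coprime_primes ha hb).2 hab).mul_dvd_of_dvd_of_dvd h1 h2⟩)
  exact adj_of_orderOf ha hb hab hg

theorem psp_adj_minus_two {m : ℕ} (hm : 1 ≤ m) {a : ℕ} (ha : a.Prime) (ha2 : a ≠ 2)
    (h1 : a ∣ Nat.card F ^ m - 1) (h2 : 4 ∣ Nat.card F ^ m - 1) : Adj (PSp m F) a 2 := by
  have hc : Nat.Coprime 4 a := by
    rw [show (4 : ℕ) = 2 ^ 2 by norm_num]
    exact Nat.Coprime.pow_left 2 (Nat.coprime_two_left.2 (ha.eq_two_or_odd'.resolve_left ha2))
  obtain ⟨g, hg⟩ := exists_psp_tor_plus (F := F) hm (N := a * 2) (Nat.mul_pos ha.pos (by norm_num)) (Or.inr (by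
    rw [show 2 * (a * 2) = 4 * a by ring]
    exact hc.mul_dvd_of_dvd_of_dvd h2 h1))
  exact adj_of_orderOf ha Nat.prime_two ha2 hg

theorem psp_adj_plus_two {m : ℕ} (hm : 1 ≤ m) {a : ℕ} (ha : a.Prime) (ha2 : a ≠ 2)
    (h1 : a ∣ Nat.card F ^ m + 1) (h2 : 4 ∣ Nat.card F ^ m + 1) : Adj (PSp m F) a 2 := by
  have hc : Nat.Coprime 4 a := by
    rw [show (4 : ℕ) = 2 ^ 2 by norm_num]
    exact Nat.Coprime.pow_left 2 (Nat.coprime_two_left.2 (ha.eq_two_or_odd'.resolve_left ha2))
  obtain ⟨g, hg⟩ := exists_psp_tor_minus (F := F) hm (N := a * 2) (Nat.mul_pos ha.pos (by norm_num)) (Or.inr (by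
    rw [show 2 * (a * 2) = 4 * a by ring]
    exact hc.mul_dvd_of_dvd_of_dvd h2 h1))
  exact adj_of_orderOf ha Nat.prime_two ha2 hg

theorem two_torus {q m : ℕ} (hm : Odd m) : q + 1 ∣ q ^ m + 1 := by
  have h := Odd.nat_add_dvd_pow_add_pow q 1 hm
  rwa [one_pow] at h

/-- **mixed case**: a prime dividing `q ^ m - 1` and a prime dividing `q ^ m + 1` -/
theorem psp_mixed {m : ℕ} (hm : 2 ≤ m) {a b : ℕ} (ha : a.Prime) (hb : b.Prime) (ha2 : a ≠ 2) (hb2 : b ≠ 2)
    (h1 : a ∣ Nat.card F ^ m - 1) (h2 : b ∣ Nat.card F ^ m + 1) :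
    Near (PSp m F) a ∨ Near (PSp m F) b := by
  have hq : 1 < Nat.card F := Finite.one_lt_card
  rcases Nat.even_or_odd m with ⟨k, hk⟩ | hmo
  · left
    refine .of_adj (psp_adj_two_of_dvd (i := k) (by omega) (by omega) ha ha2 ?_)
    rwa [hk, ← two_mul] at h1
  rcases Nat.even_or_odd (Nat.card F) with he | ho
  · right
    have hq2 : 2 < Nat.card F + 1 := by omega
    obtain ⟨s, hs, hsd⟩ := Nat.exists_prime_and_dvd (n := Nat.card F + 1) (by omega)
    have hs2 : s ≠ 2 := by
      rintro rfl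
      obtain ⟨k, hk⟩ := he
      omega
    have hsm : s ∣ Nat.card F ^ m + 1 := hsd.trans (two_torus hmo)
    have hs1 : s ∣ Nat.card F ^ (2 * 1) - 1 := by
      have h4 : Nat.card F ^ (2 * 1) - 1 = (Nat.card F + 1) * (Nat.card F - 1) := by
        rw [mul_one, ← Nat.sq_sub_sq, one_pow]
      rw [h4]
      exact Dvd.dvd.mul_right hsd _
    have hs3 := psp_adj_two_of_dvd (F := F) (m := m) (i := 1) le_rfl (by omega) hs hs2 hs1
    by_cases hbs : b = s
    · subst hbs
      exact .of_adj hs3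
    · exact .of_adj_adj (psp_adj_plus (by omega) hb hs hb2 hs2 hbs h2 hsm) hs3
  · have hodd : Odd (Nat.card F ^ m) := ho.pow
    obtain ⟨k, hk⟩ := hodd
    rcases Nat.even_or_odd k with ⟨l, hl⟩ | ⟨l, hl⟩
    · left
      exact .of_adj (psp_adj_minus_two (by omega) ha ha2 h1 ⟨l, by omega⟩)
    · right
      exact .of_adj (psp_adj_plus_two (by omega) hb hb2 h2 ⟨l + 1, by omega⟩)

/-- **Three-component theorem for `PSp_{2m}(q)`, `m ≥ 2`**: two odd primes dividing the order which are not at distance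
`≤ 2` from 2 are adjacent or equal. -/
theorem psp_three {m : ℕ} (hm : 2 ≤ m) {a b : ℕ} (ha : a.Prime) (hb : b.Prime)
    (hda : a ∣ Nat.card (PSp m F)) (hdb : b ∣ Nat.card (PSp m F)) (hna : ¬ Near (PSp m F) a)
    (hnb : ¬ Near (PSp m F) b) : a = b ∨ Adj (PSp m F) a b := by
  by_cases hab : a = b
  · exact Or.inl hab
  right
  have ha2 : a ≠ 2 := fun h => hna (Or.inl h)
  have hb2 : b ≠ 2 := fun h => hnb (Or.inl h)
  obtain ⟨h1, -⟩ := psp_info hm ha ha2 hda (fun h => hna (.of_adj h))
  obtain ⟨h2, -⟩ := psp_info hm hb hb2 hdb (fun h => hnb (.of_adj h))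
  rcases h1 with h1 | h1 <;> rcases h2 with h2 | h2
  · exact psp_adj_minus (by omega) ha hb ha2 hb2 hab h1 h2
  · exfalso
    rcases psp_mixed hm ha hb ha2 hb2 h1 h2 with h | h
    · exact hna h
    · exact hnb h
  · exfalso
    rcases psp_mixed hm hb ha hb2 ha2 h2 h1 with h | h
    · exact hnb h
    · exact hna h
  · exact psp_adj_plus (by omega) ha hb ha2 hb2 hab h1 h2

/-- the same for a group isomorphic to some `PSp` -/
theorem isPSp_three {S : Type*} [Group S] (hS : IsPSp S) {a b : ℕ} (ha : a.Prime) (hb : b.Prime)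
    (hda : a ∣ Nat.card S) (hdb : b ∣ Nat.card S) : Near S a ∨ Near S b ∨ a = b ∨ Adj S a b := by
  obtain ⟨F, _, _, m, hm, -, ⟨e⟩⟩ := hS
  have hc : Nat.card S = Nat.card (PSp m F) := Nat.card_congr e.toEquiv
  rw [hc] at hda hdb
  by_cases h1 : Near (PSp m F) a
  · exact Or.inl (h1.map e.symm.toMonoidHom e.symm.injective)
  by_cases h2 : Near (PSp m F) b
  · exact Or.inr (Or.inl (h2.map e.symm.toMonoidHom e.symm.injective))
  rcases psp_three hm ha hb hda hdb h1 h2 with h | h
  · exact Or.inr (Or.inr (Or.inl h))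
  · exact Or.inr (Or.inr (Or.inr (h.map e.symm.toMonoidHom e.symm.injective)))

end

end Cfsg.Agent.H377
end

-- part: H379/P4/TwoElt
section
set_option linter.all false
open scoped Cfsg.Agent.FastGrp

/-!
# The normalizer of a torus of order `q² + 1` in `Sp₄(q)`, `q` even
-/

set_option autoImplicit false
set_option linter.unusedSectionVars false
set_option linter.style.haveILetI false

namespace Cfsg.Agent.H379.P4.TwoElt

open Module Cfsg
open Cfsg.Agent.H150 Cfsg.Agent.ClassicalGeometry.SympBasic Cfsg.Agent.ClassicalGeometry.SympIso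

/-- **The torus normalizer.** -/
theorem exists_frob {F : Type*} [Field F] [Finite F] [hc : CharP F 2] :
    ∃ x y : Matrix.symplecticGroup (Fin 2) F, orderOf x = Nat.card F ^ 2 + 1 ∧ y ^ 4 = 1 ∧ y ^ 2 ≠ 1 ∧
      y * x = x ^ Nat.card F * y := by
  classical
  haveI : Fact (Nat.Prime 2) := ⟨Nat.prime_two⟩
  haveI : NeZero (2 * 2) := ⟨by omega⟩
  let L := FiniteField.Extension F 2 (2 * 2)
  have hL : Nat.card L = Nat.card F ^ (2 * 2) := FiniteField.natCard_extension F 2 (2 * 2)
  have hfr : finrank F L = 2 * 2 := FiniteField.finrank_extension F 2 (2 * 2)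
  haveI : FiniteDimensional F L := Module.Finite.of_finite
  letI : Fintype F := Fintype.ofFinite F
  letI : Fintype L := Fintype.ofFinite L
  haveI : CharP L 2 := charP_of_injective_algebraMap (algebraMap F L).injective 2
  obtain ⟨a, -, ha⟩ := FiniteField.card F 2
  set q : ℕ := Nat.card F with hq
  have hq1 : 1 < q := Finite.one_lt_card
  have hqa : q = 2 ^ (a : ℕ) := by rw [hq, Nat.card_eq_fintype_card, ha]
  set Q : ℕ := q ^ 2 with hQ
  have hQp : Q = 2 ^ ((a : ℕ) * 2) := by rw [hQ, hqa, ← pow_mul]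
  have hadd : ∀ x y : L, (x + y) ^ Q = x ^ Q + y ^ Q := by
    intro x y
    rw [hQp]
    exact add_pow_char_pow x y 2 ((a : ℕ) * 2)
  have hq4 : ∀ x : L, x ^ (q ^ 4) = x := by
    intro x
    rw [show q ^ 4 = Nat.card L by rw [hL], Nat.card_eq_fintype_card]
    exact FiniteField.pow_card x
  have hQQ : ∀ x : L, (x ^ Q) ^ Q = x := by
    intro x
    rw [← pow_mul, hQ, ← pow_add]
    exact hq4 x
  have hF : ∀ c : F, (algebraMap F L c) ^ Q = algebraMap F L c := by
    intro c
    rw [← map_pow]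
    congr 1
    rw [hQ, hq, Nat.card_eq_fintype_card]
    exact FiniteField.pow_card_pow 2 c
  have hsum : Finset.range (finrank F L) = Finset.range 4 := by rw [hfr]
  have htrf : ∀ z : L, algebraMap F L (Algebra.trace F L z) = z + z ^ q + z ^ q ^ 2 + z ^ q ^ 3 := by
    intro z
    have hcq : Fintype.card F = q := by rw [hq, Nat.card_eq_fintype_card]
    rw [FiniteField.algebraMap_trace_eq_sum_pow, hsum]
    simp only [Finset.sum_range_succ, Finset.sum_range_zero, zero_add, pow_zero, pow_one, ← hq]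
  -- the trace vanishes on symmetric elements
  have htr : ∀ z : L, z ^ Q = z → Algebra.trace F L z = 0 := by
    intro z hz
    apply (algebraMap F L).injective
    rw [htrf, map_zero]
    have h1 : z ^ q ^ 2 = z := hz
    have h2 : z ^ q ^ 3 = z ^ q := by
      rw [show q ^ 3 = q ^ 2 * q by ring, pow_mul, h1]
    rw [h1, h2]
    have h3 : z + z ^ q + z + z ^ q = (z + z) + (z ^ q + z ^ q) := by ring
    rw [h3, CharTwo.add_self_eq_zero, CharTwo.add_self_eq_zero, add_zero]
  have htrq : ∀ z : L, Algebra.trace F L (z ^ q) = Algebra.trace F L z := by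
    intro z
    apply (algebraMap F L).injective
    rw [htrf, htrf]
    have h1 : (z ^ q) ^ q ^ 3 = z := by
      rw [← pow_mul, ← pow_succ']; exact hq4 z
    have h2 : (z ^ q) ^ q = z ^ q ^ 2 := by
      rw [← pow_mul, show q * q = q ^ 2 by ring]
    have h3 : (z ^ q) ^ q ^ 2 = z ^ q ^ 3 := by
      rw [← pow_mul, show q * q ^ 2 = q ^ 3 by ring]
    rw [h1, h2, h3]
    ring
  have hcardL : Nat.card Lˣ = (Q + 1) * (Q - 1) := by
    rw [Nat.card_units, hL, two_mul, pow_add, ← hQ, ← Nat.sq_sub_sq, one_pow, pow_two]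
  obtain ⟨ζ, hζ⟩ : ∃ ζ : Lˣ, orderOf ζ = Q + 1 := by
    obtain ⟨g, hg⟩ := IsCyclic.exists_ofOrder_eq_natCard (α := Lˣ)
    exact ⟨g ^ (orderOf g / (Q + 1)), orderOf_pow_orderOf_div (by rw [hg]; exact Nat.card_pos.ne')
      (by rw [hg, hcardL]; exact Dvd.intro _ rfl)⟩
  have hζ' : orderOf (ζ : L) = Q + 1 := by rw [orderOf_units, hζ]
  have hζQ : (ζ : L) * (ζ : L) ^ Q = 1 := by
    rw [← pow_succ', ← orderOf_dvd_iff_pow_eq_one, hζ']
  let B : LinearMap.BilinForm F L :=
    LinearMap.mk₂ F (fun u v : L => Algebra.trace F L (u * v ^ Q))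
      (fun u u' v => by rw [← map_add]; congr 1; ring)
      (fun c u v => by rw [← map_smul]; congr 1; simp only [Algebra.smul_def]; ring)
      (fun u v v' => by rw [← map_add]; congr 1; rw [hadd]; ring)
      (fun c u v => by
        rw [← map_smul]; congr 1; simp only [Algebra.smul_def]; rw [mul_pow, hF]; ring)
  have hB : ∀ u v : L, B u v = Algebra.trace F L (u * v ^ Q) := fun u v => rfl
  have hnd : ∀ x : L, (∀ y : L, Algebra.trace F L (x * y) = 0) → x = 0 := by
    intro x hx
    by_contra hne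
    obtain ⟨t, ht⟩ := Algebra.trace_surjective F L 1
    have h1 := hx (x⁻¹ * t)
    rw [← mul_assoc, mul_inv_cancel₀ hne, one_mul, ht] at h1
    exact one_ne_zero h1
  let T : L →ₗ[F] L := LinearMap.mulLeft F (ζ : L)
  let S : L →ₗ[F] L := (FiniteField.frobeniusAlgHom F L).toLinearMap
  have hS : ∀ v : L, S v = v ^ q := by
    intro v
    change v ^ Fintype.card F = v ^ q
    rw [hq, Nat.card_eq_fintype_card]
  have hTpow : ∀ (k : ℕ) (v : L), (T ^ k) v = (ζ : L) ^ k * v := by
    intro k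
    induction k with
    | zero => intro v; simp
    | succ k ih =>
      intro v
      rw [pow_succ, Module.End.mul_apply, ih]
      change (ζ : L) ^ k * ((ζ : L) * v) = _
      rw [pow_succ, mul_assoc]
  have hSpow : ∀ (k : ℕ) (v : L), (S ^ k) v = v ^ q ^ k := by
    intro k
    induction k with
    | zero => intro v; simp
    | succ k ih =>
      intro v
      rw [pow_succ, Module.End.mul_apply, ih, hS, ← pow_mul, ← pow_succ']
  have hAlt : B.IsAlt := by
    intro x
    rw [hB]
    apply htr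
    rw [mul_pow, hQQ]
    ring
  have hBnd : ∀ u, (∀ v, B u v = 0) → u = 0 := by
    intro u hu
    exact hnd _ fun y => by
      have := hu (y ^ Q)
      rw [hB, hQQ] at this
      exact this
  have hTi : ∀ x y, B (T x) (T y) = B x y := by
    intro x y
    have h := hTpow 1
    simp only [pow_one] at h
    rw [h, h, hB, hB]
    congr 1
    rw [mul_pow]
    linear_combination (x * y ^ Q) * hζQ
  have hSi : ∀ x y, B (S x) (S y) = B x y := by
    intro x y
    rw [hS, hS, hB, hB, ← htrq (x * y ^ Q)]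
    congr 1
    rw [mul_pow, ← pow_mul, ← pow_mul, mul_comm q Q]
  obtain ⟨e, he⟩ := exists_linearEquiv_sympForm B hAlt hBnd hfr
  let φ : Module.End F L ≃ₐ[F] Matrix (Fin 2 ⊕ Fin 2) (Fin 2 ⊕ Fin 2) F :=
    (e.symm.conjAlgEquiv F).trans LinearMap.toMatrixAlgEquiv'
  have hφ : ∀ (A : Module.End F L) x, (φ A).mulVec x = e.symm (A (e x)) := by
    intro A x
    show (LinearMap.toMatrix' (e.symm.conj A)).mulVec x = _
    rw [LinearMap.toMatrix'_mulVec]
    rfl
  have hmem : ∀ A : Module.End F L, (∀ x y, B (A x) (A y) = B x y) → φ A ∈ Matrix.symplecticGroup (Fin 2) F := by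
    intro A hA
    rw [mem_symplecticGroup_iff]
    intro x y
    rw [hφ, hφ, ← he, ← he, e.apply_symm_apply, e.apply_symm_apply, hA]
  refine ⟨⟨φ T, hmem T hTi⟩, ⟨φ S, hmem S hSi⟩, ?_, ?_, ?_, ?_⟩
  · apply orderOf_eq_of_forall
    intro j
    rw [← hζ', orderOf_dvd_iff_pow_eq_one]
    constructor
    · intro h
      have h1 := congrArg Subtype.val h
      rw [SubmonoidClass.coe_pow] at h1
      change (φ T) ^ j = 1 at h1
      rw [← map_pow, ← map_one φ] at h1
      have h2 := φ.injective h1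
      have h3 := hTpow j 1
      rw [h2, mul_one] at h3
      exact h3.symm
    · intro h
      apply Subtype.ext
      rw [SubmonoidClass.coe_pow]
      change (φ T) ^ j = 1
      rw [← map_pow, ← map_one φ]
      congr 1
      apply LinearMap.ext
      intro v
      rw [hTpow, h, one_mul]; rfl
  · apply Subtype.ext
    rw [SubmonoidClass.coe_pow]
    change (φ S) ^ 4 = 1
    rw [← map_pow, ← map_one φ]
    congr 1
    apply LinearMap.ext
    intro v
    rw [hSpow, hq4]; rfl
  · intro h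
    have h1 := congrArg Subtype.val h
    rw [SubmonoidClass.coe_pow] at h1
    change (φ S) ^ 2 = 1 at h1
    rw [← map_pow, ← map_one φ] at h1
    have h2 := φ.injective h1
    have h3 := hSpow 2 (ζ : L)
    rw [h2] at h3
    change (ζ : L) = (ζ : L) ^ Q at h3
    have h4 : (ζ : L) ^ 2 = 1 := by
      rw [pow_two]
      nth_rewrite 2 [h3]
      exact hζQ
    have h5 := orderOf_dvd_of_pow_eq_one h4
    rw [hζ'] at h5
    have h6 := Nat.le_of_dvd (by norm_num) h5
    have h7 : 1 < Q := Nat.one_lt_pow (by norm_num) hq1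
    omega
  · apply Subtype.ext
    rw [Submonoid.coe_mul, Submonoid.coe_mul, SubmonoidClass.coe_pow]
    change φ S * φ T = (φ T) ^ q * φ S
    rw [← map_pow, ← map_mul, ← map_mul]
    congr 1
    apply LinearMap.ext
    intro v
    rw [Module.End.mul_apply, Module.End.mul_apply, hTpow, hS, hS]
    change ((ζ : L) * v) ^ q = _
    rw [mul_pow]

end Cfsg.Agent.H379.P4.TwoElt
end
end
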